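import Groth.Agent.Lib.ThickDesc6.Top
import Groth.Agent.Lib.ThickDesc6.Square
import Groth.Agent.Lib.RpushPerf25.PerfTensor
import Groth.Agent.Lib.FunFlat6.LimitFunctors
import Groth.Agent.Lib.FittSheaf.Generators
import Groth.Agent.Lib.FittSheaf.PullbackFP
import Groth.Agent.Lib.LocFreeHom.NearFibre
import Groth.Agent.Lib.SemiPrufer.SheafFP
import Groth.Agent.Lib.OX.PCohQCoh
import Groth.Agent.Lib.LimRank8.Basic

/-!
# Finite presentation of flat modules along first order thickenings
-/

set_option autoImplicit false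
set_option maxHeartbeats 1000000
set_option backward.isDefEq.respectTransparency false
set_option linter.all false

universe u

open CategoryTheory CategoryTheory.Limits AlgebraicGeometry TopologicalSpace TensorProduct

noncomputable section

namespace GrothLib.FPThick13

/-- A module of finite type is locally a quotient of a finite free one. -/
theorem exists_free_epi {X : Scheme.{u}} (M : X.Modules) [M.IsQuasicoherent] (hM : CohB1.IsFT M) (x : X) :
    ∃ (U : X.Opens) (n : ℕ) (p : FlatMod.freeMod U.toScheme n ⟶ (Scheme.Modules.restrictFunctor U.ι).obj M),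
      x ∈ U ∧ Epi p := by
  obtain ⟨U, hU, hxU, -⟩ := exists_isAffineOpen_mem_and_subset (show x ∈ (⊤ : X.Opens) from trivial)
  have hU' : IsAffineOpen (U.ι ''ᵁ ⊤) := by rw [Scheme.Opens.ι_image_top]; exact hU
  haveI := QCoh.moduleFinite_of_isFiniteType M hM hU'
  obtain ⟨n, e, he⟩ := Module.Finite.exists_fin (R := Γ(X, U.ι ''ᵁ ⊤)) (M := Γ(M, U.ι ''ᵁ ⊤))
  obtain ⟨p, hp⟩ := (FittSheaf.exists_epi_restrict_iff M U n).2 ⟨e, fun y => eq_top_iff.2 fun v _ => by
    have hy : U.ι y ∈ U.ι ''ᵁ ⊤ := ⟨y, trivial, rfl⟩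
    obtain ⟨c, z, hc, hz⟩ := WeakAss.exists_smul_eq_germ hU' hy v
    set S := Submodule.span (X.presheaf.stalk (U.ι y))
      (Set.range fun i => M.presheaf.germ (U.ι ''ᵁ ⊤) (U.ι y) ⟨y, trivial, rfl⟩ (e i))
    have hall : ∀ z, M.presheaf.germ (U.ι ''ᵁ ⊤) (U.ι y) hy z ∈ S := fun z => by
      have hz' : z ∈ Submodule.span Γ(X, U.ι ''ᵁ ⊤) (Set.range e) := he ▸ Submodule.mem_top
      induction hz' using Submodule.span_induction with
      | mem a ha => obtain ⟨i, rfl⟩ := ha; exact Submodule.subset_span ⟨i, rfl⟩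
      | zero => rw [map_zero]; exact S.zero_mem
      | add a b _ _ ha hb => rw [map_add]; exact S.add_mem ha hb
      | smul r a _ ha => rw [WeakAss.germ_smul]; exact S.smul_mem _ ha
    have hu := (Scheme.mem_basicOpen _ c (U.ι y) hy).mp (WeakAss.notMem_primeAt_iff.mp hc)
    have h1 := S.smul_mem ((hu.unit⁻¹ : _ˣ) : X.presheaf.stalk (U.ι y)) (hz.symm ▸ hall z : _ • v ∈ S)
    rwa [smul_smul, IsUnit.val_inv_mul, one_smul] at h1⟩
  exact ⟨U, n, p, hxU, hp⟩

/-- Along a base change of a surjective ring map, a short exact sequence with flat cokernel stays left exact. -/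
theorem injective_lTensor_of_flat {A R S K L M : Type u} [CommRing A] [CommRing R] [CommRing S] [Algebra A R]
    [Algebra R S] (hs : Function.Surjective (algebraMap R S)) (I : Ideal A)
    (hker : RingHom.ker (algebraMap R S) = I.map (algebraMap A R))
    [AddCommGroup K] [Module R K] [Module A K] [IsScalarTower A R K]
    [AddCommGroup L] [Module R L] [Module A L] [IsScalarTower A R L]
    [AddCommGroup M] [Module R M] [Module A M] [IsScalarTower A R M] [Module.Flat A M]
    (f : K →ₗ[R] L) (g : L →ₗ[R] M) (hf : Function.Injective f) (hex : Function.Exact f g)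
    (hg : Function.Surjective g) : Function.Injective (f.lTensor S) := by
  have hsmul : ∀ (P : Type u) [AddCommGroup P] [Module R P] [Module A P] [IsScalarTower A R P] (p : P),
      p ∈ RingHom.ker (algebraMap R S) • (⊤ : Submodule R P) ↔ p ∈ I • (⊤ : Submodule A P) := fun P _ _ _ _ p => by
    rw [hker, ← Submodule.restrictScalars_mem A, Ideal.smul_restrictScalars, Submodule.restrictScalars_top]
  let fA := f.restrictScalars A
  let gA := g.restrictScalars A
  rw [injective_iff_map_eq_zero]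
  intro t ht
  obtain ⟨m, rfl⟩ : ∃ m : K, t = (1 : S) ⊗ₜ[R] m := by
    clear ht
    induction t using TensorProduct.induction_on with
    | zero => exact ⟨0, (TensorProduct.tmul_zero _ _).symm⟩
    | tmul c m =>
      obtain ⟨r, rfl⟩ := hs c
      exact ⟨r • m, by rw [TensorProduct.tmul_smul, TensorProduct.smul_tmul', Algebra.smul_def, mul_one]⟩
    | add a b ha hb =>
      obtain ⟨m, rfl⟩ := ha
      obtain ⟨m', rfl⟩ := hb
      exact ⟨m + m', (TensorProduct.tmul_add _ _ _).symm⟩
  rw [LinearMap.lTensor_tmul, LocFreeHom.one_tmul_eq_zero_iff hs, hsmul] at ht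
  rw [LocFreeHom.one_tmul_eq_zero_iff hs, hsmul]
  obtain ⟨y, hy⟩ := Flatness.exists_rid_lTensor_eq I ht
  have key : ∀ z : L ⊗[A] I, TensorProduct.rid A M (I.subtype.lTensor M (gA.rTensor I z)) =
      gA (TensorProduct.rid A L (I.subtype.lTensor L z)) := fun z => by
    induction z using TensorProduct.induction_on with
    | zero => simp
    | add a b ha hb => simp only [map_add, ha, hb]
    | tmul m a => simp
  have key' : ∀ z : K ⊗[A] I, TensorProduct.rid A L (I.subtype.lTensor L (fA.rTensor I z)) =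
      fA (TensorProduct.rid A K (I.subtype.lTensor K z)) := fun z => by
    induction z using TensorProduct.induction_on with
    | zero => simp
    | add a b ha hb => simp only [map_add, ha, hb]
    | tmul m a => simp
  have hy0 : gA.rTensor I y = 0 := by
    refine (injective_iff_map_eq_zero _).1 ?_ _ (show ((TensorProduct.rid A M).toLinearMap ∘ₗ I.subtype.lTensor M)
      (gA.rTensor I y) = 0 by
        rw [LinearMap.comp_apply, LinearEquiv.coe_coe, key, hy]
        exact hex.apply_apply_eq_zero m)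
    rw [LinearMap.coe_comp, LinearEquiv.coe_coe]
    exact (TensorProduct.rid A M).injective.comp
      (Module.Flat.lTensor_preserves_injective_linearMap _ I.injective_subtype)
  obtain ⟨w, hw⟩ := ((rTensor_exact I (f := fA) (g := gA) hex hg) y).1 hy0
  have hm : m = TensorProduct.rid A K (I.subtype.lTensor K w) := hf (by
    show fA m = fA _
    rw [← key', hw, hy]
    rfl)
  rw [hm]
  exact Flatness.rid_lTensor_mem I w

/-- Pullback along a base change of a thickening is left exact on sequences with flat cokernel. -/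
theorem mono_pullback_map {X X' T T' : Scheme.{u}} {i : X ⟶ X'} {q : X ⟶ T} {q' : X' ⟶ T'} {t : T ⟶ T'}
    [IsClosedImmersion t] (sq : IsPullback i q q' t) (S : ShortComplex X'.Modules) (hS : S.ShortExact)
    (hflat : FlatMod.IsFlatOver q' S.X₃) : Mono ((Scheme.Modules.pullback i).map S.f) := by
  refine (OX.mono_iff _).2 fun x => ?_
  rw [LocFreeHom.stalk_pullback_map]
  suffices h : Mono ((ModuleCat.extendScalars (i.stalkMap x).hom).map ((OX.stalk (i x)).map S.f)) from
    @mono_comp _ _ _ _ _ _ (((OX.pullStalkIso i x).app S.X₁).isIso_hom |> fun h => @IsIso.mono_of_iso _ _ _ _ _ h) _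
      (@mono_comp _ _ _ _ _ _ h _ (((OX.pullStalkIso i x).app S.X₂).isIso_inv |> fun h => @IsIso.mono_of_iso _ _ _ _ _ h))
  rw [ModuleCat.mono_iff_injective]
  obtain ⟨ψ, hψ, -, -, hker⟩ := ThickDesc6.exists_stalk_square sq x
  haveI : IsClosedImmersion i := MorphismProperty.of_isPullback (P := @IsClosedImmersion) sq.flip inferInstance
  have hSx := (OX.shortExact_iff S).1 hS (i x)
  let A := T'.presheaf.stalk (q' (i x))
  let R := X'.presheaf.stalk (i x)
  letI : Algebra A R := (q'.stalkMap (i x)).hom.toAlgebra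
  letI : Algebra R (X.presheaf.stalk x) := (i.stalkMap x).hom.toAlgebra
  letI : Module A (S.X₁.presheaf.stalk (i x)) := FlatMod.moduleStalkOver q' S.X₁ (i x)
  letI : Module A (S.X₂.presheaf.stalk (i x)) := FlatMod.moduleStalkOver q' S.X₂ (i x)
  letI : Module A (S.X₃.presheaf.stalk (i x)) := FlatMod.moduleStalkOver q' S.X₃ (i x)
  haveI : IsScalarTower A R (S.X₁.presheaf.stalk (i x)) := IsScalarTower.of_algebraMap_smul fun _ _ => rfl
  haveI : IsScalarTower A R (S.X₂.presheaf.stalk (i x)) := IsScalarTower.of_algebraMap_smul fun _ _ => rfl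
  haveI : IsScalarTower A R (S.X₃.presheaf.stalk (i x)) := IsScalarTower.of_algebraMap_smul fun _ _ => rfl
  haveI : Module.Flat A (S.X₃.presheaf.stalk (i x)) := hflat (i x)
  exact injective_lTensor_of_flat (i.stalkMap_surjective x) (RingHom.ker ψ) hker
    (QCoh.stalkLin S.f (i x)) (QCoh.stalkLin S.g (i x)) ((ModuleCat.mono_iff_injective _).1 hSx.mono_f)
    ((ShortComplex.ShortExact.moduleCat_exact_iff_function_exact (S.map (OX.stalk (i x)))).1 hSx.exact)
    ((ModuleCat.epi_iff_surjective _).1 hSx.epi_g)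

/-- A flat module is finitely presented near a point if its reduction is. -/
theorem exists_presentation {X X' T T' : Scheme.{u}} {i : X ⟶ X'} {q : X ⟶ T} {q' : X' ⟶ T'} {t : T ⟶ T'}
    [IsClosedImmersion t] (hi : ThickDesc6.Thick i) (sq : IsPullback i q q' t) (F : X'.Modules)
    (hflat : FlatMod.IsFlatOver q' F) (hF : CohB1.IsFP ((Scheme.Modules.pullback i).obj F)) (y : X') :
    ∃ (V : X'.Opens) (W : (V : Scheme.{u}).Opens) (N₁ N₂ : (W : Scheme.{u}).Modules) (d : N₁ ⟶ N₂)
      (_ : cokernel d ≅ (Scheme.Modules.restrictFunctor W.ι).obj ((Scheme.Modules.restrictFunctor V.ι).obj F)),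
      FlatMod.IsFinLocFree N₁ ∧ FlatMod.IsFinLocFree N₂ ∧ ∃ hy : y ∈ V, (⟨y, hy⟩ : V.toScheme) ∈ W := by
  have := hi.closed
  obtain ⟨x, rfl⟩ := hi.surj y
  haveI := SemiPrufer.qcoh_of_isFP hF
  obtain ⟨U, n, p, hxU, hp⟩ := exists_free_epi _ (LimRank8.isFT_of_isFP _ hF) x
  haveI := hp
  obtain ⟨V, φ, hxV, hφ⟩ := ThickDesc6.exists_free_epi_of_pullback hi F x hxU p
  haveI := hφ
  let i' := i ∣_ V
  have hi' : ThickDesc6.Thick i' := ThickDesc6.thick_restrict hi V
  have sqV : IsPullback i' ((i ⁻¹ᵁ V).ι ≫ q) (V.ι ≫ q') t := (isPullback_morphismRestrict i V).paste_vert sq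
  let FV := (Scheme.Modules.restrictFunctor V.ι).obj F
  let S : ShortComplex V.toScheme.Modules := ShortComplex.mk (kernel.ι φ) φ (kernel.condition φ)
  have hS : S.ShortExact := { exact := ShortComplex.exact_kernel φ, mono_f := inferInstanceAs (Mono (kernel.ι φ)), epi_g := hφ }
  let pb := Scheme.Modules.pullback i'
  haveI : pb.IsLeftAdjoint := (Scheme.Modules.pullbackPushforwardAdjunction i').isLeftAdjoint
  haveI : PreservesFiniteColimits pb := PreservesColimits.preservesFiniteColimits pb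
  haveI : Mono (pb.map S.f) := mono_pullback_map sqV S hS (RpushPerf25.flatOver_restrict q' F hflat V)
  haveI : Mono (S.map pb).f := inferInstanceAs (Mono (pb.map S.f))
  haveI : Epi S.g := hφ
  have hex : (S.map pb).Exact := hS.exact.map_of_epi_of_preservesCokernel pb inferInstance inferInstance
  let eK : pb.obj (kernel φ) ≅ kernel (pb.map φ) :=
    IsLimit.conePointUniqueUpToIso hex.fIsKernel (limit.isLimit _)
  haveI := Euler.isQuasicoherent_freeMod V.toScheme n
  haveI : (pb.obj (FlatMod.freeMod V.toScheme n)).IsQuasicoherent := FittSheaf.isQuasicoherent_pullback i' _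
  have hFT : CohB1.IsFT (pb.obj (FlatMod.freeMod V.toScheme n)) :=
    FunFlat6.isFT_pullback i' _ (Euler.isCoh_of_isFinLocFree (OX.isFinLocFree_freeMod V.toScheme n)).2
  let eF : (Scheme.Modules.restrictFunctor (i ⁻¹ᵁ V).ι).obj ((Scheme.Modules.pullback i).obj F) ≅ pb.obj FV :=
    (OX.pullSquareIso i V).app F
  have hFP : CohB1.IsFP (pb.obj FV) :=
    (SheafOfModules.isFinitePresentation ((i ⁻¹ᵁ V : X.Opens) : Scheme.{u}).ringCatSheaf).prop_of_iso
      (((Scheme.Modules.restrictFunctorIsoPullback (i ⁻¹ᵁ V).ι).app _).symm ≪≫ eF)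
      (FittSheaf.isFP_pullback (i ⁻¹ᵁ V).ι _ hF)
  haveI : (pb.obj FV).IsQuasicoherent := SemiPrufer.qcoh_of_isFP hFP
  have hkFT : CohB1.IsFT (kernel (pb.map φ)) := FunFlat6.isFT_kernel hFT hFP (pb.map φ)
  haveI : (kernel (pb.map φ)).IsQuasicoherent := QCoh.isQuasicoherent_kernel _
  haveI : (pb.obj (kernel φ)).IsQuasicoherent := QCoh.isQuasicoherent_of_iso eK.symm
  let x' : ((i ⁻¹ᵁ V : X.Opens) : Scheme.{u}) := ⟨x, hxV⟩
  obtain ⟨U', m, p', hxU', hp'⟩ := exists_free_epi _ hkFT x'
  let p'' := p' ≫ (Scheme.Modules.restrictFunctor U'.ι).map eK.inv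
  haveI : Epi p'' := @epi_comp _ _ _ _ _ _ hp' _ inferInstance
  obtain ⟨W, ψ, hxW, hψ⟩ := ThickDesc6.exists_free_epi_of_pullback hi' (kernel φ) x' hxU' p''
  haveI := hψ
  let R := Scheme.Modules.restrictFunctor W.ι
  let d : FlatMod.freeMod W.toScheme m ⟶ R.obj (FlatMod.freeMod V.toScheme n) := ψ ≫ R.map (kernel.ι φ)
  haveI : Epi (S.map R).g := inferInstanceAs (Epi (R.map φ))
  have hexR : (S.map R).Exact := hS.exact.map R
  let e : cokernel d ≅ R.obj FV := cokernelEpiComp ψ (R.map (kernel.ι φ)) ≪≫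
    IsColimit.coconePointUniqueUpToIso (cokernelIsCokernel _) hexR.gIsCokernel
  refine ⟨V, W, _, _, d, e, OX.isFinLocFree_freeMod _ m,
    DCoh.isFinLocFree_of_iso (DCoh.restrictFreeModIso W.ι n).symm (OX.isFinLocFree_freeMod _ n), hxV, ?_⟩
  have h1 : i' x' = (⟨i x, hxV⟩ : V.toScheme) := Subtype.ext (morphismRestrict_base_coe i V x')
  exact h1 ▸ hxW

/-- **Finite presentation descends along base changes of thickenings, for flat modules.** -/
theorem isFP_of_isFP_pullback {X X' T T' : Scheme.{u}} {i : X ⟶ X'} {q : X ⟶ T} {q' : X' ⟶ T'} {t : T ⟶ T'}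
    [IsClosedImmersion t] (hi : ThickDesc6.Thick i) (sq : IsPullback i q q' t) (F : X'.Modules)
    (hflat : FlatMod.IsFlatOver q' F) (hF : CohB1.IsFP ((Scheme.Modules.pullback i).obj F)) : CohB1.IsFP F := by
  choose V W N₁ N₂ d e h₁ h₂ hyV hyW using exists_presentation hi sq F hflat hF
  have hWq : ∀ y, ((Scheme.Modules.restrictFunctor (W y).ι).obj
      ((Scheme.Modules.restrictFunctor (V y).ι).obj F)).IsQuasicoherent := fun y => by
    haveI := Euler.isQuasicoherent_of_isFinLocFree (h₁ y)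
    haveI := Euler.isQuasicoherent_of_isFinLocFree (h₂ y)
    haveI := QCoh.isQuasicoherent_cokernel (d y)
    exact QCoh.isQuasicoherent_of_iso (e y)
  have hy : ∀ y, y ∈ (V y).ι ''ᵁ W y := fun y => ⟨⟨y, hyV y⟩, hyW y, rfl⟩
  haveI : F.IsQuasicoherent := by
    refine QCoh.isQuasicoherent_of_restrict F (fun y => (V y).ι ''ᵁ W y)
      (eq_top_iff.2 fun y _ => Opens.mem_iSup.2 ⟨y, hy y⟩) fun y => ?_
    let j := (W y).ι ≫ (V y).ι
    have hj : j.opensRange = (V y).ι ''ᵁ W y := by
      rw [Scheme.Hom.opensRange_comp, Scheme.Opens.opensRange_ι]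
    let e' := (V y).ι.isoImage (W y)
    haveI := hWq y
    have i₁ : ((F.restrict (V y).ι).restrict (W y).ι).restrict e'.inv ≅ F.restrict ((V y).ι ''ᵁ W y).ι :=
      ((Scheme.Modules.restrictFunctorComp e'.inv (W y).ι).symm.app (F.restrict (V y).ι)) ≪≫
        (Scheme.Modules.restrictFunctorComp (e'.inv ≫ (W y).ι) (V y).ι).symm.app F ≪≫
        (Scheme.Modules.restrictFunctorCongr (by simp [e'])).app F
    haveI : (((F.restrict (V y).ι).restrict (W y).ι).restrict e'.inv).IsQuasicoherent := inferInstance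
    exact QCoh.isQuasicoherent_of_iso i₁
  have key : ∀ y, ∃ O : X'.Opens, IsAffineOpen O ∧ y ∈ O ∧ Module.FinitePresentation Γ(X', O) Γ(F, O) := fun y => by
    obtain ⟨O, hO, hyO, hfp⟩ := OX.exists_affine_fp_cokernel (d y) (h₁ y) (h₂ y) ⟨⟨y, hyV y⟩, hyW y⟩
    refine ⟨(V y).ι ''ᵁ ((W y).ι ''ᵁ O), (hO.image_of_isOpenImmersion _).image_of_isOpenImmersion _,
      ⟨⟨y, hyV y⟩, ⟨⟨⟨y, hyV y⟩, hyW y⟩, hyO, rfl⟩, rfl⟩, ?_⟩
    exact OX.finitePresentation_of_restrict F _
      (OX.finitePresentation_of_restrict _ O (OX.finitePresentation_of_iso (e y) O hfp))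
  choose O hO hyO hfp using key
  exact FlatFP.isFP_of_sections _ O (eq_top_iff.2 fun y _ => Opens.mem_iSup.2 ⟨y, hyO y⟩) hO hfp

end GrothLib.FPThick13
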